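/-
B(T)-blocks: the Baumann subgroup is weakly closed, blocks are normalised by invariant p-subgroups.
-/
import Cfsg.Prelude.Def_BaumannBlocks
import Cfsg.Agent.Lib.PLocal.Thompson
import Cfsg.Agent.Lib.LocalEven.SylowAux
import Cfsg.Agent.Lib.CharP.AxB

set_option autoImplicit false
set_option linter.unusedSectionVars false

namespace Cfsg.Agent.BBlock

open scoped commutatorElement

variable {G : Type*} [Group G] {p : ℕ}

theorem le_normalizer_of_conj [Finite G] {H K : Subgroup G} (h : ∀ x ∈ K, ∀ y ∈ H, x * y * x⁻¹ ∈ H) :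
    K ≤ Subgroup.normalizer (H : Set G) := by
  intro x hx
  rw [Subgroup.mem_normalizer_iff]
  refine fun y => ⟨h x hx y, fun hy => ?_⟩
  simpa [mul_assoc] using h x⁻¹ (inv_mem hx) _ hy

theorem right_le_normalizer_commutator [Finite G] (H K : Subgroup G) :
    K ≤ Subgroup.normalizer ((⁅H, K⁆ : Subgroup G) : Set G) := by
  refine le_normalizer_of_conj fun x hx y hy => ?_
  rw [Subgroup.commutator_def] at hy
  induction hy using Subgroup.closure_induction with
  | mem y hy =>
    obtain ⟨a, ha, b, hb, rfl⟩ := hy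
    have e : x * ⁅a, b⁆ * x⁻¹ = ⁅a, x⁆⁻¹ * ⁅a, x * b⁆ := by
      simp only [commutatorElement_def]; group
    rw [e]
    exact mul_mem (inv_mem (Subgroup.commutator_mem_commutator ha hx))
      (Subgroup.commutator_mem_commutator ha (mul_mem hx hb))
  | one => simp
  | mul a b _ _ ha hb =>
    rw [show x * (a * b) * x⁻¹ = (x * a * x⁻¹) * (x * b * x⁻¹) by group]
    exact mul_mem ha hb
  | inv a _ ha =>
    rw [show x * a⁻¹ * x⁻¹ = (x * a * x⁻¹)⁻¹ by group]
    exact inv_mem ha

theorem left_le_normalizer_commutator [Finite G] (H K : Subgroup G) :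
    H ≤ Subgroup.normalizer ((⁅H, K⁆ : Subgroup G) : Set G) := by
  rw [Subgroup.commutator_comm]; exact right_le_normalizer_commutator K H

/-- A `g` normalising both factors normalises their commutator. -/
theorem normalizer_inf_le_commutator (H K : Subgroup G) :
    Subgroup.normalizer (H : Set G) ⊓ Subgroup.normalizer (K : Set G) ≤
      Subgroup.normalizer ((⁅H, K⁆ : Subgroup G) : Set G) := by
  intro g hg
  rw [← LEBasic.map_conj_eq_iff_mem_normalizer, Subgroup.map_commutator,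
    LEBasic.map_conj_eq_iff_mem_normalizer.2 (Subgroup.mem_inf.1 hg).1,
    LEBasic.map_conj_eq_iff_mem_normalizer.2 (Subgroup.mem_inf.1 hg).2]

theorem pResidualOf_eq_closure (p : ℕ) (E : Subgroup G) :
    Cfsg.pResidualOf p E = Subgroup.closure {g : G | g ∈ E ∧ (orderOf g).Coprime p} := by
  rw [Cfsg.pResidualOf, Cfsg.pResidual, MonoidHom.map_closure]
  congr 1
  ext g
  constructor
  · rintro ⟨x, hx, rfl⟩
    exact ⟨x.2, by rw [Subgroup.coe_subtype, Subgroup.orderOf_coe]; exact hx⟩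
  · rintro ⟨hg, hco⟩
    exact ⟨⟨g, hg⟩, show Nat.Coprime (orderOf (⟨g, hg⟩ : ↥E)) p by rwa [Subgroup.orderOf_mk], rfl⟩

variable [Finite G] [Fact p.Prime]

/-- `O^p(EP) = E` for a `p`-group `P` normalising `E = O^p(E)`. -/
theorem pResidualOf_sup {E P : Subgroup G} (hE : Cfsg.pResidualOf p E = E) (hP : IsPGroup p ↥P)
    (hPE : P ≤ Subgroup.normalizer (E : Set G)) : Cfsg.pResidualOf p (E ⊔ P) = E := by
  rw [pResidualOf_eq_closure]
  refine le_antisymm ?_ ?_
  · rw [Subgroup.closure_le]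
    rintro g ⟨hg, hco⟩
    have hmul : g ∈ ((E ⊔ P : Subgroup G) : Set G) := hg
    rw [sup_comm, Subgroup.coe_mul_of_left_le_normalizer_right _ _ hPE] at hmul
    obtain ⟨x, hx, e, he, rfl⟩ := hmul
    set N := Subgroup.normalizer (E : Set G)
    have hxN : x ∈ N := hPE hx
    have heN : e ∈ N := Subgroup.le_normalizer he
    haveI : (E.subgroupOf N).Normal := Subgroup.normal_subgroupOf_of_le_normalizer le_rfl
    have hπe : (QuotientGroup.mk (⟨e, heN⟩ : ↥N) : ↥N ⧸ E.subgroupOf N) = 1 :=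
      (QuotientGroup.eq_one_iff _).2 he
    have h1 : (QuotientGroup.mk (⟨x * e, mul_mem hxN heN⟩ : ↥N) : ↥N ⧸ E.subgroupOf N) =
        QuotientGroup.mk (⟨x, hxN⟩ : ↥N) := by
      rw [show (⟨x * e, mul_mem hxN heN⟩ : ↥N) = ⟨x, hxN⟩ * ⟨e, heN⟩ from rfl, QuotientGroup.mk_mul,
        hπe, mul_one]
    obtain ⟨k, hk⟩ := hP ⟨x, hx⟩
    have hk' : x ^ p ^ k = 1 := congrArg Subtype.val hk
    have d1 : orderOf (QuotientGroup.mk (⟨x, hxN⟩ : ↥N) : ↥N ⧸ E.subgroupOf N) ∣ p ^ k := by
      refine orderOf_dvd_of_pow_eq_one ?_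
      rw [← QuotientGroup.mk_pow, show (⟨x, hxN⟩ : ↥N) ^ p ^ k = 1 from Subtype.ext hk',
        QuotientGroup.mk_one]
    have d2 : orderOf (QuotientGroup.mk (⟨x, hxN⟩ : ↥N) : ↥N ⧸ E.subgroupOf N) ∣ orderOf (x * e) := by
      rw [← h1, ← Subgroup.orderOf_mk (x * e) (mul_mem hxN heN)]
      exact orderOf_map_dvd (QuotientGroup.mk' _) _
    have h2 := Nat.eq_one_of_dvd_coprimes (Nat.Coprime.pow_right k hco) d2 d1
    have h3 : x ∈ E :=
      (QuotientGroup.eq_one_iff (N := E.subgroupOf N) (⟨x, hxN⟩ : ↥N)).1 (orderOf_eq_one_iff.1 h2)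
    exact mul_mem h3 he
  · conv_lhs => rw [← hE, pResidualOf_eq_closure]
    exact Subgroup.closure_mono fun g hg => ⟨Subgroup.mem_sup_left hg.1, hg.2⟩

theorem normalizer_le_normalizer_pResidualOf (H : Subgroup G) :
    Subgroup.normalizer (H : Set G) ≤ Subgroup.normalizer (Cfsg.pResidualOf p H : Set G) := by
  intro g hg
  rw [← LEBasic.map_conj_eq_iff_mem_normalizer, pResidualOf_eq_closure, MonoidHom.map_closure]
  congr 1
  have ho : ∀ a y : G, orderOf (a * y * a⁻¹) = orderOf y := fun a y =>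
    orderOf_injective (MulAut.conj a).toMonoidHom (MulAut.conj a).injective y
  ext y
  constructor
  · rintro ⟨z, ⟨hz, hco⟩, rfl⟩
    refine ⟨(Subgroup.mem_normalizer_iff.1 hg z).1 hz, ?_⟩
    show (orderOf (g * z * g⁻¹)).Coprime p
    rwa [ho]
  · rintro ⟨hy, hco⟩
    refine ⟨g⁻¹ * y * g, ⟨(Subgroup.mem_normalizer_iff''.1 hg y).1 hy, ?_⟩, by simp [mul_assoc]⟩
    have := ho g⁻¹ y
    rw [inv_inv] at this
    rwa [this]

theorem thompson_le_baumann (T : Subgroup G) :
    Cfsg.thompsonSubgroupOf p T ≤ Cfsg.baumannSubgroupOf p T := by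
  refine le_inf (Thompson.thompsonSubgroupOf_le p T) fun j hj => ?_
  intro y hy
  have hle : Cfsg.omegaOne p (Cfsg.centerThompsonOf p T) ≤ Cfsg.centerThompsonOf p T := by
    rw [Cfsg.omegaOne, Subgroup.closure_le]; exact fun x hx => hx.1
  exact ((hle hy).2 j hj).symm

theorem baumann_map_conj (T : Subgroup G) (g : G) :
    Cfsg.baumannSubgroupOf p (T.map (MulAut.conj g).toMonoidHom) =
      (Cfsg.baumannSubgroupOf p T).map (MulAut.conj g).toMonoidHom := by
  have hC : ∀ K : Subgroup G, Subgroup.centralizer ((K.map (MulAut.conj g).toMonoidHom : Subgroup G) : Set G) =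
      (Subgroup.centralizer (K : Set G)).map (MulAut.conj g).toMonoidHom := fun K => by
    ext y
    rw [LEBasic.mem_map_conj]
    constructor
    · intro hy k hk
      have := hy (g * k * g⁻¹) ⟨k, hk, rfl⟩
      calc k * (g⁻¹ * y * g) = g⁻¹ * ((g * k * g⁻¹) * y) * g := by group
        _ = g⁻¹ * (y * (g * k * g⁻¹)) * g := by rw [this]
        _ = g⁻¹ * y * g * k := by group
    · rintro hy _ ⟨k, hk, rfl⟩
      show g * k * g⁻¹ * y = y * (g * k * g⁻¹)
      calc g * k * g⁻¹ * y = g * (k * (g⁻¹ * y * g)) * g⁻¹ := by group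
        _ = g * (g⁻¹ * y * g * k) * g⁻¹ := by rw [hy k hk]
        _ = y * (g * k * g⁻¹) := by group
  have hO : ∀ K : Subgroup G, Cfsg.omegaOne p (K.map (MulAut.conj g).toMonoidHom) =
      (Cfsg.omegaOne p K).map (MulAut.conj g).toMonoidHom := fun K => by
    rw [Cfsg.omegaOne, Cfsg.omegaOne, MonoidHom.map_closure]
    congr 1
    ext y
    constructor
    · rintro ⟨⟨k, hk, rfl⟩, hyp⟩
      exact ⟨k, ⟨hk, (MulAut.conj g).injective (by rw [map_pow, map_one]; exact hyp)⟩, rfl⟩
    · rintro ⟨k, ⟨hk, hkp⟩, rfl⟩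
      exact ⟨⟨k, hk, rfl⟩, by rw [← map_pow, hkp, map_one]⟩
  have hJ := Thompson.thompsonSubgroupOf_map_of_injective (p := p) T (MulAut.conj g).toMonoidHom
    (MulAut.conj g).injective
  rw [Cfsg.baumannSubgroupOf, Cfsg.baumannSubgroupOf, Cfsg.centerThompsonOf, Cfsg.centerThompsonOf, hJ,
    hC, ← Subgroup.map_inf _ _ _ (MulAut.conj g).injective, hO, hC,
    ← Subgroup.map_inf _ _ _ (MulAut.conj g).injective]

/-- `B(T)` is normal in every `p`-subgroup containing it. -/
theorem normalizes_baumann (T : Sylow p G) {X : Subgroup G} (hX : IsPGroup p ↥X)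
    (hBX : Cfsg.baumannSubgroupOf p (T : Subgroup G) ≤ X) :
    X ≤ Subgroup.normalizer (Cfsg.baumannSubgroupOf p (T : Subgroup G) : Set G) := by
  obtain ⟨S, hS⟩ := hX.exists_le_sylow
  obtain ⟨g, hg⟩ := LESylow.exists_conj_eq T S
  have hBeq : Cfsg.baumannSubgroupOf p (S : Subgroup G) = Cfsg.baumannSubgroupOf p (T : Subgroup G) := by
    have hJS : Cfsg.thompsonSubgroupOf p (T : Subgroup G) ≤ (S : Subgroup G) :=
      (thompson_le_baumann _).trans (hBX.trans hS)
    have hJ : Cfsg.thompsonSubgroupOf p (S : Subgroup G) = Cfsg.thompsonSubgroupOf p (T : Subgroup G) := by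
      have hle : Cfsg.thompsonSubgroupOf p (T : Subgroup G) ≤ Cfsg.thompsonSubgroupOf p (S : Subgroup G) := by
        conv_lhs => rw [Thompson.thompsonSubgroupOf_eq]
        refine sSup_le fun A hA => Thompson.le_thompsonSubgroupOf ⟨?_, hA.2.1, fun C hC hCe => ?_⟩
        · exact (Thompson.le_thompsonSubgroupOf hA).trans hJS
        · have := hA.2.2 (C.map (MulAut.conj g⁻¹).toMonoidHom)
            ((LEBasic.map_conj_le_iff g⁻¹).2 (by rw [inv_inv, hg]; exact hC))
            (Thompson.isElementaryAbelian_map _ hCe)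
          rwa [LEBasic.card_map_conj] at this
      refine (Subgroup.eq_of_le_of_card_ge hle (le_of_eq ?_)).symm
      rw [← hg, Thompson.thompsonSubgroupOf_map_of_injective _ _ (MulAut.conj g).injective,
        LEBasic.card_map_conj]
    have hle : Cfsg.baumannSubgroupOf p (T : Subgroup G) ≤ Cfsg.baumannSubgroupOf p (S : Subgroup G) := by
      refine le_inf (hBX.trans hS) ?_
      rw [Cfsg.centerThompsonOf, hJ]
      exact inf_le_right
    refine (Subgroup.eq_of_le_of_card_ge hle (le_of_eq ?_)).symm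
    rw [← hg, baumann_map_conj, LEBasic.card_map_conj]
  intro x hx
  have hxS : x ∈ Subgroup.normalizer ((S : Subgroup G) : Set G) := Subgroup.le_normalizer (hS hx)
  rw [← LEBasic.map_conj_eq_iff_mem_normalizer, ← hBeq, ← baumann_map_conj,
    LEBasic.map_conj_eq_iff_mem_normalizer.2 hxS]

theorem baumann_le_normalizer (T : Sylow p G) {E : Subgroup G}
    (hE : Cfsg.IsBaumannBlock p (T : Subgroup G) E) :
    Cfsg.baumannSubgroupOf p (T : Subgroup G) ≤ Subgroup.normalizer (E : Set G) := by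
  have h := right_le_normalizer_commutator E (Cfsg.baumannSubgroupOf p (T : Subgroup G))
  rwa [hE.2.1] at h

theorem le_normalizer_block (T : Sylow p G) {E Q : Subgroup G}
    (hE : Cfsg.IsBaumannBlock p (T : Subgroup G) E) (hQ : IsPGroup p ↥Q)
    (hBQ : Cfsg.baumannSubgroupOf p (T : Subgroup G) ≤ Subgroup.normalizer (Q : Set G))
    (hEQ : E ≤ Subgroup.normalizer (Q : Set G)) : Q ≤ Subgroup.normalizer (E : Set G) := by
  set B := Cfsg.baumannSubgroupOf p (T : Subgroup G) with hB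
  have hBE : B ≤ Subgroup.normalizer (E : Set G) := baumann_le_normalizer T hE
  have hBp : IsPGroup p ↥B := T.isPGroup'.to_le inf_le_left
  have hQB : Q ≤ Subgroup.normalizer (B : Set G) := le_sup_left.trans
    (normalizes_baumann T (IsPGroup.to_sup_of_normal_left' hQ hBp hBQ) le_sup_right)
  set K := ⨆ e : ↥E, B.map (MulAut.conj (e : G)).toMonoidHom with hK
  have hQK : ∀ x ∈ Q, K.map (MulAut.conj x).toMonoidHom = K := by
    intro x hx
    rw [hK, Subgroup.map_iSup]
    refine iSup_congr fun e => ?_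
    have h1 : (e : G)⁻¹ * x * e ∈ Q := (Subgroup.mem_normalizer_iff''.1 (hEQ e.2) x).1 hx
    rw [LEBasic.map_conj_map_conj, show x * (e : G) = e * ((e : G)⁻¹ * x * e) by group,
      ← LEBasic.map_conj_map_conj, LEBasic.map_conj_eq_iff_mem_normalizer.2 (hQB h1)]
  have hBK : B ≤ K :=
    le_iSup_of_le (f := fun e : ↥E => B.map (MulAut.conj (e : G)).toMonoidHom) 1
      (by rw [OneMemClass.coe_one, LEBasic.map_conj_one])
  have hEK : E ≤ K := by
    conv_lhs => rw [← hE.2.1]
    rw [Subgroup.commutator_le]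
    intro e he b hb
    rw [commutatorElement_def]
    exact mul_mem ((le_iSup (fun e : ↥E => B.map (MulAut.conj (e : G)).toMonoidHom) ⟨e, he⟩)
      ⟨b, hb, rfl⟩) (inv_mem (hBK hb))
  have hKeq : K = E ⊔ B := by
    refine le_antisymm (iSup_le fun e => ?_) (sup_le hEK hBK)
    rintro _ ⟨b, hb, rfl⟩
    exact mul_mem (mul_mem (Subgroup.mem_sup_left e.2) (Subgroup.mem_sup_right hb))
      (inv_mem (Subgroup.mem_sup_left e.2))
  intro x hx
  have h1 : x ∈ Subgroup.normalizer ((E ⊔ B : Subgroup G) : Set G) :=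
    hKeq ▸ LEBasic.map_conj_eq_iff_mem_normalizer.1 (hQK x hx)
  have h2 := normalizer_le_normalizer_pResidualOf (p := p) (E ⊔ B) h1
  rwa [pResidualOf_sup hE.1 hBp hBE] at h2

end Cfsg.Agent.BBlock
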